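import Groth.Agent.MultDefLib.Mult
import Mathlib.GroupTheory.FiniteAbelian.Basic

/-!
# Spectra of Hopf algebras of multiplicative type are locally diagonalisable for the fpqc topology
-/

universe u

open CategoryTheory CategoryTheory.Limits MonoidalCategory CartesianMonoidalCategory MonObj GrpObj AlgebraicGeometry
open TensorProduct

set_option backward.isDefEq.respectTransparency false
set_option linter.style.haveILetI false

noncomputable section

namespace Groth.Agent.MultLift19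

open GrpSchLib.AffineHopf (sp spMap)

/-- Finitely generated abelian groups have small models. -/
theorem exists_small_fg (M : Type u) [CommGroup M] [Group.FG M] :
    ∃ (M₀ : Type) (_ : AddCommGroup M₀), AddGroup.FG M₀ ∧ Nonempty (M ≃* Multiplicative M₀) := by
  obtain ⟨n, ξ, hξ, p, -, e, ⟨φ⟩⟩ := AddCommGroup.equiv_free_prod_directSum_zmod (Additive M)
  refine ⟨_, inferInstance, ?_, ⟨φ.toMultiplicativeRight⟩⟩
  exact AddGroup.fg_of_surjective (f := φ.toAddMonoidHom) φ.surjective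

variable {R : Type u} [CommRing R] {A : Type u} [CommRing A] [HopfAlgebra R A]

/-- A member of a cover with small finitely generated character group. -/
theorem exists_small_split (hft : Algebra.FiniteType R A) (P : MultTypeLib.Split R A) :
    ∃ (M : Type) (_ : AddCommGroup M), AddGroup.FG M ∧
      Nonempty (P.S ⊗[R] A ≃ₐc[P.S] MonoidAlgebra P.S (Multiplicative M)) := by
  rcases subsingleton_or_nontrivial P.S with hs | hs
  · refine ⟨Fin 1 → ℤ, inferInstance, AddGroup.fg_iff_addMonoid_fg.mpr inferInstance, ?_⟩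
    haveI : Subsingleton (P.S ⊗[R] A) := Module.subsingleton P.S _
    haveI : Subsingleton (MonoidAlgebra P.S (Multiplicative (Fin 1 → ℤ))) := Module.subsingleton P.S _
    refine ⟨BialgEquiv.ofBijective (BialgHom.ofAlgHom
      ({ toFun := 0, map_one' := Subsingleton.elim _ _, map_mul' := fun _ _ => Subsingleton.elim _ _,
         map_zero' := rfl, map_add' := fun _ _ => Subsingleton.elim _ _,
         commutes' := fun _ => Subsingleton.elim _ _ } : P.S ⊗[R] A →ₐ[P.S] MonoidAlgebra P.S (Multiplicative (Fin 1 → ℤ)))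
      (AlgHom.ext fun _ => Subsingleton.elim _ _) (AlgHom.ext fun _ => ?_)) ⟨fun _ _ _ => Subsingleton.elim _ _,
        fun b => ⟨0, Subsingleton.elim _ _⟩⟩⟩
    haveI : Subsingleton (MonoidAlgebra P.S (Multiplicative (Fin 1 → ℤ)) ⊗[P.S] MonoidAlgebra P.S (Multiplicative (Fin 1 → ℤ))) :=
      Module.subsingleton P.S _
    exact Subsingleton.elim _ _
  · haveI := hft
    have hfg : Monoid.FG P.M :=
      MonoidAlgebra.finiteType_iff_fg.mp (Algebra.FiniteType.equiv (inferInstance : Algebra.FiniteType P.S (P.S ⊗[R] A)) P.equiv)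
    haveI : Group.FG P.M := Group.fg_iff_monoid_fg.mpr hfg
    obtain ⟨M, _, hM, ⟨φ⟩⟩ := exists_small_fg P.M
    refine ⟨M, inferInstance, hM, ⟨P.bialgEquiv.trans (BialgEquiv.ofBijective
      (MonoidAlgebra.mapDomainBialgHom P.S φ.toMonoidHom) (Function.bijective_iff_has_inverse.mpr
        ⟨MonoidAlgebra.mapDomainBialgHom P.S φ.symm.toMonoidHom, fun x => ?_, fun x => ?_⟩))⟩⟩ <;>
      rw [MonoidAlgebra.mapDomainBialgHom_mapDomainBialgHom] <;> simp

/-- The spectrum of a Hopf algebra of multiplicative type and finite type is of multiplicative type. -/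
theorem multTypeFT_sp (hA : SGA3b.IsMultType R A) (hft : Algebra.FiniteType R A) : SGA3x.IsMultTypeFT (sp R A) := by
  classical
  obtain ⟨c⟩ := MultTypeLib.exists_cover hA
  let F : c.ι → Scheme.{u} := fun i => Spec (CommRingCat.of (c.split i).S)
  let a : ∀ i, F i ⟶ Spec (CommRingCat.of R) := fun i =>
    Spec.map (CommRingCat.ofHom (algebraMap R (c.split i).S))
  let f : ∐ F ⟶ Spec (CommRingCat.of R) := Sigma.desc a
  haveI hflat : Flat f := IsZariskiLocalAtSource.sigmaDesc fun i =>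
    Flat.SpecMap_iff.mpr (RingHom.flat_algebraMap_iff.mpr (c.split i).flat)
  have hsurj : Surjective f := ⟨fun p => by
    obtain ⟨i, q, hq, hqp⟩ := c.surj p.asIdeal p.isPrime
    refine ⟨(Sigma.ι F i).base ⟨q, hq⟩, ?_⟩
    rw [← Scheme.Hom.comp_apply, Sigma.ι_desc]
    exact PrimeSpectrum.ext hqp⟩
  haveI : IsAffine (∐ F) := inferInstance
  refine ⟨∐ F, f, hflat, hsurj, fun V hV => ⟨f ⁻¹ᵁ V, (hV.preimage f).isCompact, ?_⟩, fun s' => ?_⟩
  · exact Set.image_preimage_eq _ f.surjective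
  · obtain ⟨i, x, rfl⟩ : ∃ i x, (Sigma.ι F i).base x = s' := by
      obtain ⟨i, x, hx⟩ := (sigmaOpenCover F).exists_eq s'
      exact ⟨i, x, hx⟩
    obtain ⟨M, _, hM, ⟨e⟩⟩ := exists_small_split hft (c.split i)
    refine ⟨(Sigma.ι F i).opensRange, ⟨x, rfl⟩, M, inferInstance, hM, ?_⟩
    let j := (Sigma.ι F i).isoOpensRange
    have hj : j.inv ≫ a i = (Sigma.ι F i).opensRange.ι ≫ f := by
      rw [Iso.inv_comp_eq, Scheme.Hom.isoOpensRange_hom_ι_assoc, Sigma.ι_desc]
    obtain ⟨e₁⟩ := GrpSchLib.MultTypeBC.bc_congr hj (sp R A)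
    obtain ⟨e₂⟩ := GrpSchLib.MultTypeBC.bc_bc j.inv (a i) (sp R A)
    obtain ⟨e₃⟩ := GrpSchLib.AffineHopf.nonempty_bc_sp (R := R) (c.split i).S A
    obtain ⟨e₄⟩ := GrpSchLib.AffineHopf.nonempty_DS_iso (c.split i).S M
    obtain ⟨e₅⟩ := GrpSchLib.MultTypeBC.bc_iso j.inv (e₃ ≪≫ GrpSchLib.AffineHopf.spIso e.symm ≪≫ e₄)
    obtain ⟨e₆⟩ := GrpSchLib.MultTypeBC.bc_DS j.inv M
    exact ⟨e₁.symm ≪≫ e₂.symm ≪≫ e₅ ≪≫ e₆⟩

theorem multLoc_sp (hA : SGA3b.IsMultType R A) (hft : Algebra.FiniteType R A) : MultDefLib.MultLoc (sp R A) :=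
  MultDefLib.multLoc_of_multTypeFT (multTypeFT_sp hA hft)

end Groth.Agent.MultLift19

end
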