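import Groth.Agent.MultDefLib.Subgroup
import Groth.Agent.MultTypeLib.MultNil

/-!
# Lifting homomorphisms out of groups of multiplicative type from a nilpotent thickening, and
twisting by a point over the smaller base
-/

universe u

open CategoryTheory CategoryTheory.Limits MonoidalCategory CartesianMonoidalCategory MonObj GrpObj AlgebraicGeometry
open TensorProduct WithConv

set_option backward.isDefEq.respectTransparency false
set_option linter.style.haveILetI false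

noncomputable section

namespace Groth.Agent.MultLift19

open DSPtsLib (theta theta_left theta_comp theta_bijective theta_mul)
open GrpSchLib.AffineHopf (sp spMap spMap_comp spMap_id toBc toBc_fst toBc_comp_map toBc_injective toBc_bcToSp
  bcToSp extendScalars extendScalars_tmul)
open MultDefLib (MultLoc overIso down down_toBc bc_hom_ext red ext CanLift)

section Twist

variable {S U : Scheme.{u}} (f : U ⟶ S)

/-- The structure map to `U` of a scheme over `U`, read over `S`. -/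
def toU (Y : Over U) : (Over.map f).obj Y ⟶ Over.mk f := Over.homMk Y.hom rfl

theorem map_toU {Y Y' : Over U} (a : Y' ⟶ Y) : (Over.map f).map a ≫ toU f Y = toU f Y' :=
  Over.OverMorphism.ext (Over.w a)

theorem theta_map {Y : Over U} {H H' : Over S} (a : Y ⟶ Red.bc f H) (v : H ⟶ H') :
    theta f (a ≫ (Over.pullback f).map v) = theta f a ≫ v :=
  (Over.mapPullbackAdj f).homEquiv_naturality_right_symm a v

/-- A point over a scheme over `U` as a point of the base change. -/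
theorem exists_theta {H : Over S} {X : Over S} (p : X ⟶ Over.mk f) (h : X ⟶ H) :
    ∃ (Y : Over U) (e : X ≅ (Over.map f).obj Y) (a : Y ⟶ Red.bc f H),
      h = e.hom ≫ theta f a ∧ p = e.hom ≫ toU f Y := by
  let e : X ≅ (Over.map f).obj (Over.mk p.left) := Over.isoMk (Iso.refl _) (by
    show 𝟙 _ ≫ p.left ≫ f = X.hom
    rw [Category.id_comp]
    exact Over.w p)
  obtain ⟨a, ha⟩ := (theta_bijective f).2 (e.inv ≫ h)
  exact ⟨_, e, a, by rw [ha, Iso.hom_inv_id_assoc], Over.OverMorphism.ext (Category.id_comp p.left).symm⟩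

/-- Equal base changes means equal on points over schemes over `U`. -/
theorem comp_eq_of_bc_eq {H G : Over S} (u v : H ⟶ G) (h0 : (Over.pullback f).map u = (Over.pullback f).map v)
    {X : Over S} (p : X ⟶ Over.mk f) (h : X ⟶ H) : h ≫ u = h ≫ v := by
  obtain ⟨Y, e, a, rfl, -⟩ := exists_theta f p h
  rw [Category.assoc, Category.assoc, ← theta_map, ← theta_map, h0]

/-- A morphism of group objects preserving products of points is a homomorphism. -/
theorem isMonHom_of_mul {C : Type*} [Category C] [CartesianMonoidalCategory C] {A B : C} [GrpObj A] [GrpObj B]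
    (ψ : A ⟶ B) (hmul : ∀ (X : C) (a b : X ⟶ A), (a * b) ≫ ψ = (a ≫ ψ) * (b ≫ ψ)) : IsMonHom ψ := by
  refine ⟨?_, ?_⟩
  · have h1 := hmul (𝟙_ _) 1 1
    rw [_root_.mul_one, right_eq_mul] at h1
    have e : ∀ {Y : C} [GrpObj Y], (1 : 𝟙_ _ ⟶ Y) = η[Y] := fun {Y} _ => by
      rw [Hom.one_def, toUnit_unique (toUnit (𝟙_ _)) (𝟙 _), Category.id_comp]
    rwa [e, e] at h1
  · have h1 := hmul (A ⊗ A) (fst A A) (snd A A)
    rw [Hom.mul_def, Hom.mul_def, lift_fst_snd, Category.id_comp] at h1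
    rw [h1]
    congr 1
    ext <;> simp

variable {G H K : Over S} [GrpObj G] [GrpObj H] [GrpObj K]

/-- `ψ` is the conjugate of `u` by `g` over `U`, seen in `K`. -/
def IsTwist (u : H ⟶ G) (k : K ⟶ G) (g : Over.mk f ⟶ G) (ψ : Red.bc f H ⟶ Red.bc f K) : Prop :=
  ∀ (Y : Over U) (a : Y ⟶ Red.bc f H),
    theta f (a ≫ ψ) ≫ k = (toU f Y ≫ g) * (theta f a ≫ u) * (toU f Y ≫ g)⁻¹

theorem exists_twist (u : H ⟶ G) [IsMonHom u] (k : K ⟶ G) [IsMonHom k] [Mono k] (g : Over.mk f ⟶ G)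
    (h0 : ∀ (X : Over S) (p : X ⟶ Over.mk f) (h : X ⟶ H),
      ∃ x : X ⟶ K, (p ≫ g) * (h ≫ u) * (p ≫ g)⁻¹ = x ≫ k) :
    ∃ ψ : Red.bc f H ⟶ Red.bc f K, IsMonHom ψ ∧ IsTwist f u k g ψ := by
  obtain ⟨x, hx⟩ := h0 _ (toU f (Red.bc f H)) (theta f (𝟙 _))
  obtain ⟨ψ, hψ⟩ := (theta_bijective f).2 x
  have key : IsTwist f u k g ψ := fun Y a => by
    rw [theta_comp, hψ, Category.assoc, ← hx]
    simp only [MonObj.comp_mul, GrpObj.comp_inv, ← Category.assoc, map_toU, ← theta_comp, Category.comp_id]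
  refine ⟨ψ, isMonHom_of_mul ψ fun Y a b => ?_, key⟩
  refine (theta_bijective f).1 ?_
  rw [← cancel_mono k, key, theta_mul, theta_mul, MonObj.mul_comp, MonObj.mul_comp, key, key]
  group

theorem twist_trans {H' : Over S} [GrpObj H'] {i : H ⟶ G} [Mono i] {i' : H' ⟶ G} {g g' : Over.mk f ⟶ G}
    (hg : g' * g = 1) {ψ : Red.bc f H ⟶ Red.bc f H'} {ψ' : Red.bc f H' ⟶ Red.bc f H}
    (hψ : IsTwist f i i' g ψ) (hψ' : IsTwist f i' i g' ψ') : ψ ≫ ψ' = 𝟙 _ := by
  refine (theta_bijective f).1 ?_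
  rw [← cancel_mono i]
  have h1 := hψ _ (𝟙 (Red.bc f H))
  rw [Category.id_comp] at h1
  have h2 : (toU f (Red.bc f H) ≫ g') * (toU f (Red.bc f H) ≫ g) = 1 := by
    rw [← MonObj.comp_mul, hg, MonObj.comp_one]
  rw [hψ' _ ψ, h1, eq_inv_of_mul_eq_one_left h2]
  group

/-- The twisted relation on all points over schemes over `U`. -/
theorem IsTwist.apply {u : H ⟶ G} {k : K ⟶ G} {g : Over.mk f ⟶ G} {ψ : Red.bc f H ⟶ Red.bc f K}
    (hψ : IsTwist f u k g ψ) {θ : H ⟶ K} (hθ : (Over.pullback f).map θ = ψ) {X : Over S} (p : X ⟶ Over.mk f)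
    (h : X ⟶ H) : h ≫ θ ≫ k = (p ≫ g) * (h ≫ u) * (p ≫ g)⁻¹ := by
  obtain ⟨Y, e, a, rfl, rfl⟩ := exists_theta f p h
  have h1 := hψ Y a
  rw [← hθ, theta_map] at h1
  rw [Category.assoc, ← Category.assoc (theta f a), h1]
  simp only [MonObj.comp_mul, GrpObj.comp_inv, Category.assoc]

end Twist

variable {R : Type u} [CommRing R] {J : Ideal R}

local notation "i₀" => Spec.map (CommRingCat.ofHom (algebraMap R (R ⧸ J)))

instance isMonHom_pullback_map {S U : Scheme.{u}} (f : U ⟶ S) {X Y : Over S} [GrpObj X] [GrpObj Y] (v : X ⟶ Y)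
    [IsMonHom v] : IsMonHom (show Red.bc f X ⟶ Red.bc f Y from (Over.pullback f).map v) :=
  ((Over.pullback f).mapGrp.map (Grp.ofHom (A := X) (B := Y) v)).hom.isMonHom_hom

theorem exists_bcToSp_inv {A : Type u} [CommRing A] [HopfAlgebra R A] :
    ∃ q : sp (R ⧸ J) ((R ⧸ J) ⊗[R] A) ⟶ Red.bc i₀ (sp R A), IsMonHom q ∧
      q = toBc (Algebra.TensorProduct.includeRight : A →ₐ[R] (R ⧸ J) ⊗[R] A) ∧ q ≫ bcToSp = 𝟙 _ ∧ bcToSp ≫ q = 𝟙 _ := by
  haveI : IsIso (bcToSp (R := R) (S := R ⧸ J) (A := A)).left :=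
    inferInstanceAs (IsIso (pullbackSymmetry .. ≪≫ pullbackSpecIso' R (R ⧸ J) A).hom)
  haveI : IsIso ((Over.forget _).map (bcToSp (R := R) (S := R ⧸ J) (A := A))) :=
    ‹IsIso (bcToSp (R := R) (S := R ⧸ J) (A := A)).left›
  haveI := isIso_of_reflects_iso (bcToSp (R := R) (S := R ⧸ J) (A := A)) (Over.forget _)
  let Φ := Grp.mkIso' (asIso (bcToSp (R := R) (S := R ⧸ J) (A := A)))
  have h : toBc (Algebra.TensorProduct.includeRight : A →ₐ[R] (R ⧸ J) ⊗[R] A) ≫ bcToSp = 𝟙 _ := by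
    rw [toBc_bcToSp, ← spMap_id]
    congr 1
    refine Algebra.TensorProduct.ext (Subsingleton.elim _ _) (AlgHom.ext fun a => ?_)
    show extendScalars _ ((1 : R ⧸ J) ⊗ₜ[R] a) = (1 : R ⧸ J) ⊗ₜ[R] a
    rw [extendScalars_tmul, one_smul]
    rfl
  refine ⟨inv (bcToSp (R := R) (S := R ⧸ J) (A := A)), Φ.inv.hom.isMonHom_hom, ?_, IsIso.inv_hom_id _,
    IsIso.hom_inv_id _⟩
  exact IsIso.inv_eq_of_inv_hom_id h

theorem exists_lift_sp (hJ : IsNilpotent J) {A B : Type u} [CommRing A] [HopfAlgebra R A] [CommRing B]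
    [HopfAlgebra R B] (hA : SGA3b.IsMultType R A) (hB : SGA3b.IsMultType R B)
    (ψ : Red.bc i₀ (sp R A) ⟶ Red.bc i₀ (sp R B)) [IsMonHom ψ] :
    ∃ θ : sp R A ⟶ sp R B, IsMonHom θ ∧ (Over.pullback i₀).map θ = ψ := by
  obtain ⟨q, hq, hqe, hq1, hq2⟩ := exists_bcToSp_inv (J := J) (A := A)
  haveI hb : IsMonHom (bcToSp (R := R) (S := R ⧸ J) (A := B)) := inferInstance
  haveI : IsMonHom (q ≫ ψ ≫ bcToSp (R := R) (S := R ⧸ J) (A := B)) := inferInstance
  obtain ⟨φ₀, hφ₀⟩ := GrpSchLib.AffineHopf.exists_bialgHom (q ≫ ψ ≫ bcToSp (R := R) (S := R ⧸ J) (A := B))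
  obtain ⟨φ, hφ⟩ := MultTypeLib.exists_bialgHom_lift_nil hJ hB hA φ₀
  refine ⟨spMap (φ : B →ₐ[R] A), inferInstance, ?_⟩
  haveI : IsIso q := ⟨bcToSp, hq1, hq2⟩
  obtain ⟨q', -, -, hq1', hq2'⟩ := exists_bcToSp_inv (J := J) (A := B)
  refine (cancel_epi q).mp ?_
  have key : ∀ u v : sp (R ⧸ J) ((R ⧸ J) ⊗[R] A) ⟶ Red.bc i₀ (sp R B), u ≫ bcToSp = v ≫ bcToSp → u = v := fun u v h => by
    have := congrArg (· ≫ q') h
    simpa only [Category.assoc, hq2', Category.comp_id] using this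
  refine key _ _ ?_
  rw [Category.assoc q ψ, hφ₀, hqe, toBc_comp_map, toBc_bcToSp]
  congr 1
  refine Algebra.TensorProduct.ext (Subsingleton.elim _ _) (AlgHom.ext fun b => ?_)
  show extendScalars _ ((1 : R ⧸ J) ⊗ₜ[R] b) = φ₀ ((1 : R ⧸ J) ⊗ₜ[R] b)
  rw [extendScalars_tmul, one_smul, hφ]
  rfl

theorem lift_sp_unique (hJ : IsNilpotent J) {A B : Type u} [CommRing A] [HopfAlgebra R A] [CommRing B]
    [HopfAlgebra R B] (hA : SGA3b.IsMultType R A) (hB : SGA3b.IsMultType R B) (θ θ' : sp R A ⟶ sp R B)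
    [IsMonHom θ] [IsMonHom θ'] (h : (Over.pullback i₀).map θ = (Over.pullback i₀).map θ') : θ = θ' := by
  obtain ⟨φ, rfl⟩ := GrpSchLib.AffineHopf.exists_bialgHom θ
  obtain ⟨φ', rfl⟩ := GrpSchLib.AffineHopf.exists_bialgHom θ'
  have h1 := congrArg (toBc (Algebra.TensorProduct.includeRight : A →ₐ[R] (R ⧸ J) ⊗[R] A) ≫ ·) h
  simp only [toBc_comp_map] at h1
  have h2 := toBc_injective h1
  rw [MultTypeLib.bialgHom_ext_nil hJ hB hA φ φ' fun b => (MultTypeLib.one_tmul_eq_iff_mem J _ _).mp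
    (AlgHom.congr_fun h2 b)]

variable {H K : Over (Spec (CommRingCat.of R))} [GrpObj H] [GrpObj K]

/-- Homomorphisms between groups of multiplicative type lift along nilpotent ideals. -/
theorem exists_lift (hJ : IsNilpotent J) (hH : MultLoc H) (hK : MultLoc K) (ψ : Red.bc i₀ H ⟶ Red.bc i₀ K)
    [IsMonHom ψ] : ∃ θ : H ⟶ K, IsMonHom θ ∧ (Over.pullback i₀).map θ = ψ := by
  obtain ⟨A, _, _, hA, ⟨e⟩⟩ := MultDefLib.exists_hopf_multType hH
  obtain ⟨B, _, _, hB, ⟨e'⟩⟩ := MultDefLib.exists_hopf_multType hK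
  haveI : IsMonHom (overIso e).hom := e.hom.hom.isMonHom_hom
  haveI : IsMonHom (overIso e).inv := e.inv.hom.isMonHom_hom
  haveI : IsMonHom (overIso e').hom := e'.hom.hom.isMonHom_hom
  haveI : IsMonHom (overIso e').inv := e'.inv.hom.isMonHom_hom
  obtain ⟨θ, hθ, hθe⟩ := exists_lift_sp hJ hA hB
    ((show Red.bc i₀ (sp R A) ⟶ Red.bc i₀ H from (Over.pullback i₀).map (overIso e).hom) ≫ ψ ≫
      (show Red.bc i₀ K ⟶ Red.bc i₀ (sp R B) from (Over.pullback i₀).map (overIso e').inv))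
  refine ⟨(overIso e).inv ≫ θ ≫ (overIso e').hom, inferInstance, ?_⟩
  rw [Functor.map_comp, Functor.map_comp, hθe]
  simp [← Functor.map_comp, ← Functor.map_comp_assoc]

theorem lift_unique (hJ : IsNilpotent J) (hH : MultLoc H) (hK : MultLoc K) (θ θ' : H ⟶ K)
    [IsMonHom θ] [IsMonHom θ'] (h : (Over.pullback i₀).map θ = (Over.pullback i₀).map θ') : θ = θ' := by
  obtain ⟨A, _, _, hA, ⟨e⟩⟩ := MultDefLib.exists_hopf_multType hH
  obtain ⟨B, _, _, hB, ⟨e'⟩⟩ := MultDefLib.exists_hopf_multType hK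
  haveI : IsMonHom (overIso e).hom := e.hom.hom.isMonHom_hom
  haveI : IsMonHom (overIso e').inv := e'.inv.hom.isMonHom_hom
  have := lift_sp_unique hJ hA hB ((overIso e).hom ≫ θ ≫ (overIso e').inv) ((overIso e).hom ≫ θ' ≫ (overIso e').inv)
    (by simp only [Functor.map_comp, h])
  rwa [cancel_epi, cancel_mono] at this

/-- An isomorphism over the closed subscheme lifts to an isomorphism. -/
theorem exists_lift_iso (hJ : IsNilpotent J) (hH : MultLoc H) (hK : MultLoc K) (ψ : Red.bc i₀ H ⟶ Red.bc i₀ K)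
    [IsMonHom ψ] (ψ' : Red.bc i₀ K ⟶ Red.bc i₀ H) [IsMonHom ψ'] (h₁ : ψ ≫ ψ' = 𝟙 _) (h₂ : ψ' ≫ ψ = 𝟙 _) :
    ∃ θ : H ≅ K, IsMonHom θ.hom ∧ (Over.pullback i₀).map θ.hom = ψ := by
  obtain ⟨θ, hθ, hθe⟩ := exists_lift hJ hH hK ψ
  obtain ⟨θ', hθ', hθe'⟩ := exists_lift hJ hK hH ψ'
  refine ⟨⟨θ, θ', ?_, ?_⟩, hθ, hθe⟩
  · refine lift_unique hJ hH hH _ _ ?_
    rw [Functor.map_comp, hθe, hθe', CategoryTheory.Functor.map_id]
    exact h₁
  · refine lift_unique hJ hK hK _ _ ?_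
    rw [Functor.map_comp, hθe, hθe', CategoryTheory.Functor.map_id]
    exact h₂

/-- Homomorphisms into smooth groups lift along nilpotent ideals. -/
theorem exists_lift_smooth (hJ : IsNilpotent J) (hH : MultLoc H) [Smooth K.hom] (ψ : Red.bc i₀ H ⟶ Red.bc i₀ K)
    [IsMonHom ψ] : ∃ θ : H ⟶ K, IsMonHom θ ∧ (Over.pullback i₀).map θ = ψ := by
  obtain ⟨A, _, _, hA, ⟨e⟩⟩ := MultDefLib.exists_hopf_multType hH
  obtain ⟨mn⟩ := MultTypeLib.exists_mean hA
  haveI : IsMonHom (overIso e).hom := e.hom.hom.isMonHom_hom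
  haveI : IsMonHom (overIso e).inv := e.inv.hom.isMonHom_hom
  let b := (show Red.bc i₀ (sp R A) ⟶ Red.bc i₀ H from (Over.pullback i₀).map (overIso e).hom) ≫ ψ
  letI := MultDefLib.algRed J A
  obtain ⟨f, hf⟩ := MultDefLib.canLift_of_smooth (G := K) hJ A (down (toBc (S := R ⧸ J) (red J A) ≫ b))
  obtain ⟨j, hjf, hj⟩ := MultDefLib.exists_hom_nilpotent mn hJ
    (fun L hL => MultDefLib.canLift_of_smooth (MultDefLib.isNilpotent_of_le hL hJ))
    (MultDefLib.exists_reduction_hom b _ rfl f hf)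
  haveI := MultDefLib.isMonHom_of_isHom hj
  have hjb : (Over.pullback i₀).map j = b := by
    refine bc_hom_ext ?_
    rw [down_toBc, hjf, hf]
  refine ⟨(overIso e).inv ≫ j, inferInstance, ?_⟩
  rw [Functor.map_comp, hjb]
  simp [b, ← Functor.map_comp_assoc]

end Groth.Agent.MultLift19

end
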