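import Groth.Agent.MultLift19.Bridge
import Groth.Agent.MultTypeLib.HopfKer
import Groth.Agent.MultTypeLib.Sub

/-!
# Torsion subgroups of spectra of Hopf algebras, on points with values in arbitrary schemes
-/

universe u

open CategoryTheory CategoryTheory.Limits MonoidalCategory CartesianMonoidalCategory MonObj GrpObj AlgebraicGeometry
open TensorProduct WithConv Coalgebra Bialgebra

set_option backward.isDefEq.respectTransparency false
set_option linter.style.haveILetI false

noncomputable section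

namespace Groth.Agent.MultLift19

open GrpSchLib.AffineHopf (sp spMap spMap_comp spMap_id spMap_mul)

variable {R : Type u} [CommRing R] {A : Type u} [CommRing A] [HopfAlgebra R A]

/-- Global functions as points of an affine scheme over the base. -/
theorem exists_gamma {B : Type u} [CommRing B] [Algebra R B] {X : Over (Spec (CommRingCat.of R))} (h : X ⟶ sp R B) :
    ∃ (_ : Algebra R Γ(X.left, ⊤)) (π : X ⟶ sp R Γ(X.left, ⊤)) (ψ : B →ₐ[R] Γ(X.left, ⊤)),
      π.left = X.left.toSpecΓ ∧ h = π ≫ spMap ψ := by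
  let ψ₀ := ((Scheme.ΓSpecIso (CommRingCat.of B)).inv ≫ h.left.appTop).hom
  have hh : X.left.toSpecΓ ≫ Spec.map (CommRingCat.ofHom ψ₀) = h.left := by
    rw [CommRingCat.ofHom_hom, Spec.map_comp, ← Scheme.toSpecΓ_naturality_assoc]
    exact (congrArg (h.left ≫ ·) (toSpecΓ_SpecMap_ΓSpecIso_inv _)).trans (Category.comp_id h.left)
  letI : Algebra R Γ(X.left, ⊤) := (ψ₀.comp (algebraMap R B)).toAlgebra
  let ψ : B →ₐ[R] Γ(X.left, ⊤) := { ψ₀ with commutes' := fun _ => rfl }
  have hw : X.left.toSpecΓ ≫ Spec.map (CommRingCat.ofHom (algebraMap R Γ(X.left, ⊤))) = X.hom := by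
    rw [show algebraMap R Γ(X.left, ⊤) = ψ₀.comp (algebraMap R B) from rfl, CommRingCat.ofHom_comp, Spec.map_comp,
      ← Category.assoc, hh]
    exact Over.w h
  exact ⟨_, Over.homMk X.left.toSpecΓ hw, ψ, rfl, Over.OverMorphism.ext hh.symm⟩

theorem gamma_cancel {X : Over (Spec (CommRingCat.of R))} [Algebra R Γ(X.left, ⊤)]
    (π : X ⟶ sp R Γ(X.left, ⊤)) (hπ : π.left = X.left.toSpecΓ) {B : Type u} [CommRing B] [Algebra R B]
    {a b : B →ₐ[R] Γ(X.left, ⊤)} (h : π ≫ spMap a = π ≫ spMap b) : a = b := by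
  have h1 : X.left.toSpecΓ ≫ Spec.map (CommRingCat.ofHom a.toRingHom) =
      X.left.toSpecΓ ≫ Spec.map (CommRingCat.ofHom b.toRingHom) := by
    have := congrArg (fun z : X ⟶ sp R B => z.left) h
    rw [Over.comp_left, Over.comp_left, hπ] at this
    exact this
  have h2 := congrArg Scheme.Hom.appTop h1
  simp only [Scheme.Hom.comp_appTop, Scheme.toSpecΓ_appTop, Scheme.ΓSpecIso_naturality] at h2
  exact AlgHom.coe_ringHom_injective (congrArg CommRingCat.Hom.hom ((cancel_epi _).mp h2))

theorem id_pow_eq (n : ℕ) : (𝟙 (sp R A)) ^ n = spMap (SGA3b.powConv R A n) := by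
  induction n with
  | zero =>
    rw [pow_zero, SGA3b.powConv, pow_zero]
    exact (map_one Spec.mapMulEquiv).symm
  | succ n ih =>
    rw [pow_succ, ih, ← spMap_id, spMap_mul, SGA3b.powConv, SGA3b.powConv, pow_succ, toConv_ofConv]

theorem isMonHom_pow (hA : SGA3b.IsMultType R A) (n : ℕ) : IsMonHom (spMap (SGA3b.powConv R A n)) := by
  haveI := MultTypeLib.isCocomm_of_isMultType hA
  rw [show SGA3b.powConv R A n = (MultTypeLib.powBialg (R := R) (A := A) n : A →ₐ[R] A) from
    AlgHom.ext fun a => (MultTypeLib.powBialg_apply n a).symm]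
  infer_instance

/-- The `n`-torsion of a group of multiplicative type is a subgroup of multiplicative type. -/
theorem exists_torsion (hA : SGA3b.IsMultType R A) (hft : Algebra.FiniteType R A) (n : ℕ) :
    ∃ (B : Type u) (_ : CommRing B) (_ : HopfAlgebra R B) (ε : sp R B ⟶ sp R A),
      IsMonHom ε ∧ IsClosedImmersion ε.left ∧ MultDefLib.MultLoc (sp R B) ∧ ε ^ n = 1 ∧
        ∀ (X : Over (Spec (CommRingCat.of R))) (h : X ⟶ sp R A), h ^ n = 1 → ∃ y : X ⟶ sp R B, y ≫ ε = h := by
  haveI := MultTypeLib.isHopfIdeal_torsionIdeal hA n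
  let K := SGA3b.torsionIdeal R A n
  have hB : SGA3b.IsMultType R (A ⧸ K) := MultTypeLib.isMultType_torsion K hA n rfl
  haveI := hft
  haveI : Algebra.FiniteType R (A ⧸ K) :=
    Algebra.FiniteType.of_surjective (Ideal.Quotient.mkₐ R K) Ideal.Quotient.mk_surjective
  let π : A →ₐc[R] A ⧸ K := Bialgebra.Quotient.mkBialgHom K
  have hone : ∀ (Y : Type u) [CommRing Y] [Algebra R Y], (1 : sp R Y ⟶ sp R A) =
      spMap ((Algebra.ofId R Y).comp (Bialgebra.counitAlgHom R A)) := fun Y _ _ =>
    (map_one Spec.mapMulEquiv).symm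
  have hpow : ∀ {X : Over (Spec (CommRingCat.of R))} (h : X ⟶ sp R A), h ^ n = h ≫ spMap (SGA3b.powConv R A n) :=
    fun h => by rw [← id_pow_eq, MonObj.comp_pow, Category.comp_id]
  have hker : ∀ {Y : Type u} [CommRing Y] [Algebra R Y] (ψ : A →ₐ[R] Y), (∀ a ∈ K, ψ a = 0) ↔
      ψ.comp (SGA3b.powConv R A n) = (Algebra.ofId R Y).comp (Bialgebra.counitAlgHom R A) := fun {Y} _ _ ψ => by
    constructor
    · intro hK
      ext a
      have h0 : a - algebraMap R A (counit a) ∈ RingHom.ker (Bialgebra.counitAlgHom R A) := by simp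
      have := hK _ (Ideal.mem_map_of_mem (SGA3b.powConv R A n) h0)
      simpa [sub_eq_zero] using this
    · intro he
      suffices hle : K ≤ RingHom.ker ψ from fun a ha => hle ha
      refine Ideal.map_le_iff_le_comap.mpr fun a ha => ?_
      have := AlgHom.congr_fun he a
      simp only [AlgHom.comp_apply] at this
      rw [Ideal.mem_comap, RingHom.mem_ker, this, RingHom.mem_ker.mp ha, map_zero]
  refine ⟨A ⧸ K, inferInstance, inferInstance, spMap (π : A →ₐ[R] A ⧸ K), inferInstance, ?_, multLoc_sp hB inferInstance, ?_,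
    fun X h hh => ?_⟩
  · exact IsClosedImmersion.spec_of_surjective _ Ideal.Quotient.mk_surjective
  · rw [hpow, hone, spMap_comp]
    exact congrArg spMap ((hker (π : A →ₐ[R] A ⧸ K)).mp fun a ha => Ideal.Quotient.eq_zero_iff_mem.mpr ha)
  · obtain ⟨_, p, ψ, hp, rfl⟩ := exists_gamma h
    rw [hpow, Category.assoc, spMap_comp, ← MonObj.comp_one p, hone] at hh
    refine ⟨p ≫ spMap (Ideal.Quotient.liftₐ K ψ ((hker ψ).mpr (gamma_cancel p hp hh))), ?_⟩
    rw [Category.assoc, spMap_comp]
    rfl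

end Groth.Agent.MultLift19

end
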