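import Groth.Agent.MultLift19.Basic
import Groth.Agent.MultLift19.Torsion

/-!
# Lifting subgroups of multiplicative type, keeping the type
-/

universe u

open CategoryTheory CategoryTheory.Limits MonoidalCategory CartesianMonoidalCategory MonObj GrpObj AlgebraicGeometry
open TensorProduct WithConv

set_option backward.isDefEq.respectTransparency false
set_option linter.style.haveILetI false

noncomputable section

namespace Groth.Agent.MultLift19

open GrpSchLib.AffineHopf (sp spMap toBc toBc_fst)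
open MultDefLib (MultLoc overIso down down_left red)

variable {R : Type u} [CommRing R] {J : Ideal R}

local notation "i₀" => Spec.map (CommRingCat.ofHom (algebraMap R (R ⧸ J)))

/-- Algebras of finite type modulo a nilpotent ideal are of finite type. -/
theorem finiteType_of_quot (hJ : IsNilpotent J) {A : Type u} [CommRing A] [Algebra R A]
    (h : Algebra.FiniteType (R ⧸ J) ((R ⧸ J) ⊗[R] A)) : Algebra.FiniteType R A := by
  classical
  haveI : Algebra.FiniteType R ((R ⧸ J) ⊗[R] A) := Algebra.FiniteType.trans (inferInstance : Algebra.FiniteType R (R ⧸ J)) h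
  obtain ⟨s, hs⟩ := Algebra.FiniteType.out (R := R) (A := (R ⧸ J) ⊗[R] A)
  let π : A →ₐ[R] (R ⧸ J) ⊗[R] A := Algebra.TensorProduct.includeRight
  choose g hg using fun z : (R ⧸ J) ⊗[R] A => TensorProduct.mk_surjective R A (R ⧸ J) Ideal.Quotient.mk_surjective z
  let P := Algebra.adjoin R (↑(s.image g) : Set A)
  have himg : ∀ z, ∃ p ∈ P, π p = z := fun z => by
    have hz : z ∈ Algebra.adjoin R (↑s : Set _) := hs ▸ Algebra.mem_top
    induction hz using Algebra.adjoin_induction with
    | mem x hx => exact ⟨g x, Algebra.subset_adjoin (Finset.mem_coe.mpr (Finset.mem_image_of_mem g hx)), hg x⟩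
    | algebraMap r => exact ⟨algebraMap R A r, P.algebraMap_mem r, π.commutes r⟩
    | add x y _ _ hx hy =>
      obtain ⟨p, hp, rfl⟩ := hx
      obtain ⟨q, hq, rfl⟩ := hy
      exact ⟨p + q, P.add_mem hp hq, map_add _ _ _⟩
    | mul x y _ _ hx hy =>
      obtain ⟨p, hp, rfl⟩ := hx
      obtain ⟨q, hq, rfl⟩ := hy
      exact ⟨p * q, P.mul_mem hp hq, map_mul _ _ _⟩
  let P' : Submodule R A := Subalgebra.toSubmodule P
  have h1 : (⊤ : Submodule R A) ≤ P' ⊔ J • ⊤ := fun a _ => by
    obtain ⟨p, hp, hpa⟩ := himg (π a)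
    rw [show a = p + (a - p) by ring]
    exact Submodule.add_mem_sup hp ((MultTypeLib.one_tmul_eq_iff_mem J a p).mp hpa.symm)
  have h2 : ∀ n : ℕ, (⊤ : Submodule R A) ≤ P' ⊔ J ^ n • ⊤ := fun n => by
    induction n with
    | zero => rw [pow_zero, Ideal.one_eq_top, Submodule.top_smul]; exact le_sup_right
    | succ n ih =>
      refine ih.trans (sup_le le_sup_left ?_)
      refine (Submodule.smul_mono le_rfl h1).trans ?_
      rw [Submodule.smul_sup, ← Submodule.smul_assoc, smul_eq_mul, ← pow_succ]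
      exact sup_le (Submodule.smul_le_right.trans le_sup_left) le_sup_right
  obtain ⟨n, hn⟩ := hJ
  have h3 := h2 n
  rw [hn, Ideal.zero_eq_bot, Submodule.bot_smul, sup_bot_eq] at h3
  exact ⟨⟨s.image g, top_le_iff.mp fun a _ => h3 Submodule.mem_top⟩⟩

/-- Lifting a subgroup of multiplicative type to a subgroup of multiplicative type. -/
theorem exists_subgroup_lift_mult (hJ : IsNilpotent J) (G : Over (Spec (CommRingCat.of R))) [GrpObj G] [Smooth G.hom]
    (H₀ : Over (Spec (CommRingCat.of (R ⧸ J)))) [GrpObj H₀] (hH₀ : MultLoc H₀)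
    (j₀ : H₀ ⟶ Red.bc i₀ G) [IsMonHom j₀] [IsImmersion j₀.left] :
    ∃ (A : Type u) (_ : CommRing A) (_ : HopfAlgebra R A) (j : sp R A ⟶ G),
      SGA3b.IsMultType R A ∧ Algebra.FiniteType R A ∧ IsMonHom j ∧ IsImmersion j.left ∧
      ∃ φ : Red.bc i₀ (sp R A) ≅ H₀, IsMonHom φ.hom ∧ IsMonHom φ.inv ∧ φ.hom ≫ j₀ = (Over.pullback i₀).map j := by
  obtain ⟨A₀, i₁, i₂, hA₀, ⟨e₀⟩⟩ := MultDefLib.exists_hopf_multType hH₀
  have hlft : LocallyOfFiniteType H₀.hom := by
    rw [← Over.w j₀]
    haveI : LocallyOfFiniteType (Red.bc i₀ G).hom := inferInstanceAs (LocallyOfFiniteType (pullback.snd _ _))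
    infer_instance
  have hft : Algebra.FiniteType (R ⧸ J) A₀ := by
    haveI := hlft
    have h2 : LocallyOfFiniteType (sp (R ⧸ J) A₀).hom := by
      rw [← Over.w (overIso e₀).hom]
      haveI : IsIso (overIso e₀).hom.left := inferInstanceAs (IsIso ((Over.forget _).map (overIso e₀).hom))
      infer_instance
    exact RingHom.finiteType_algebraMap.mp ((HasRingHomProperty.Spec_iff (P := @LocallyOfFiniteType)).mp h2)
  obtain ⟨A, i₃, i₄, hA, ⟨β⟩⟩ := MultTypeLib.exists_quasiIsotrivial_lift J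
    (fun x hx => by
      obtain ⟨n, hn⟩ := hJ
      exact ⟨n, by simpa [hn] using Ideal.pow_mem_pow hx n⟩) A₀
    (MultTypeLib.isQuasiIsotrivial_of_isMultType hft hA₀)
  have hA' := MultDefLib.isMultType_of_quasiIsotrivial hA
  haveI := hft
  have hftA : Algebra.FiniteType R A := finiteType_of_quot hJ (Algebra.FiniteType.equiv hft (β : _ ≃ₐ[R ⧸ J] A₀).symm)
  obtain ⟨k⟩ := GrpSchLib.AffineHopf.nonempty_bc_sp (R := R) (R ⧸ J) A
  let Φ : Grp.mk (Red.bc i₀ (sp R A)) ≅ Grp.mk H₀ := k ≪≫ GrpSchLib.AffineHopf.spIso β.symm ≪≫ e₀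
  let φ := overIso Φ
  haveI : IsMonHom φ.hom := Φ.hom.hom.isMonHom_hom
  haveI : IsMonHom φ.inv := Φ.inv.hom.isMonHom_hom
  obtain ⟨j, hjm, hjb⟩ := exists_lift_smooth hJ (multLoc_sp hA' hftA) (φ.hom ≫ j₀ : _ ⟶ Red.bc i₀ G)
  refine ⟨A, i₃, i₄, j, hA', hftA, hjm, MultDefLib.isImmersion_of_red hJ j ?_, φ, inferInstance, inferInstance, hjb.symm⟩
  letI := MultDefLib.algRed J A
  rw [← MultDefLib.down_toBc (J := J), hjb, down_left, Over.comp_left]
  haveI : IsImmersion (φ.hom ≫ j₀).left := by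
    haveI : IsIso φ.hom.left := inferInstanceAs (IsIso ((Over.forget _).map φ.hom))
    exact inferInstanceAs (IsImmersion (φ.hom.left ≫ j₀.left))
  haveI : IsClosedImmersion i₀ := IsClosedImmersion.spec_of_surjective _ Ideal.Quotient.mk_surjective
  haveI : IsImmersion (toBc (S := R ⧸ J) (red J A)).left := by
    haveI : IsImmersion ((toBc (S := R ⧸ J) (red J A)).left ≫ pullback.fst _ _) := by
      rw [toBc_fst]
      haveI : IsClosedImmersion (Spec.map (CommRingCat.ofHom (red J A).toRingHom)) :=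
        IsClosedImmersion.spec_of_surjective _ MultDefLib.red_surjective
      infer_instance
    exact IsImmersion.of_comp _ (pullback.fst (sp R A).hom i₀)
  infer_instance

end Groth.Agent.MultLift19

end
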